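import Mathlib.AlgebraicGeometry.ValuativeCriterion
import Mathlib.AlgebraicGeometry.Limits
import Mathlib.AlgebraicGeometry.Morphisms.Affine
import Mathlib.AlgebraicGeometry.Morphisms.ClosedImmersion
import Mathlib.AlgebraicGeometry.Morphisms.QuasiSeparated
import Mathlib.Topology.KrullDimension
import Groth.Agent.Lib.WLocal.Components

/-!
# Schemes all of whose points are closed
-/

set_option autoImplicit false

universe u

open CategoryTheory CategoryTheory.Limits AlgebraicGeometry TopologicalSpace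

namespace Groth.Agent.Lib.DimZero.Sep

theorem t1Space_of_krullDim {T : Type*} [TopologicalSpace T] [T0Space T]
    (h : topologicalKrullDim T ≤ 0) : T1Space T := by
  refine t1Space_iff_specializes_imp_eq.2 fun x y hxy => ?_
  let Zx : IrreducibleCloseds T := ⟨closure {x}, isIrreducible_singleton.closure, isClosed_closure⟩
  let Zy : IrreducibleCloseds T := ⟨closure {y}, isIrreducible_singleton.closure, isClosed_closure⟩
  have hle : Zy ≤ Zx := closure_minimal (Set.singleton_subset_iff.2 hxy.mem_closure) isClosed_closure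
  have hle' : Zx ≤ Zy := (Order.krullDim_nonpos_iff_forall_isMax.1 h Zy) hle
  have hyx : y ⤳ x := specializes_iff_mem_closure.2 (hle' (subset_closure rfl))
  exact (hxy.antisymm hyx).eq

variable (X : Scheme.{u})

theorem t2Space_affineOpen [T1Space X] {U : X.Opens} (hU : IsAffineOpen U) :
    T2Space (U : Set X) := by
  have e : PrimeSpectrum Γ(X, U) ≃ₜ (U : Set X) := hU.isoSpec.inv.homeomorph
  have : T1Space (U : Set X) := inferInstance
  have : T1Space (PrimeSpectrum Γ(X, U)) := e.symm.t1Space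
  have := WLocal.Components.totallySeparatedSpace_of_t1 (X := PrimeSpectrum Γ(X, U))
  exact e.t2Space

theorem isClosed_affineOpen [T1Space X] [QuasiSeparatedSpace X] {U : X.Opens} (hU : IsAffineOpen U) :
    IsClosed (U : Set X) := by
  rw [← isOpen_compl_iff, isOpen_iff_forall_mem_open]
  intro x hx
  obtain ⟨_, ⟨V, hV, rfl⟩, hxV, -⟩ := X.isBasis_affineOpens.exists_subset_of_mem_open
    (show x ∈ (⊤ : X.Opens) from trivial) isOpen_univ
  have := t2Space_affineOpen X (U := V) hV
  have hc : IsCompact ((U : Set X) ∩ V) :=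
    QuasiSeparatedSpace.inter_isCompact _ _ U.2 hU.isCompact V.2 hV.isCompact
  have hc' : IsCompact ((Subtype.val : ↥(V : Set X) → X) ⁻¹' ((U : Set X) ∩ V)) := by
    rw [Subtype.isCompact_iff, Set.image_preimage_eq_inter_range]
    simpa [Set.inter_assoc] using hc
  refine ⟨(V : Set X) \ U, fun y hy => hy.2, ?_, ⟨hxV, hx⟩⟩
  have hopen := V.2.isOpenMap_subtype_val _ hc'.isClosed.isOpen_compl
  convert hopen using 1
  ext y
  constructor
  · rintro ⟨hyV, hyU⟩
    exact ⟨⟨y, hyV⟩, fun h => hyU h.1, rfl⟩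
  · rintro ⟨z, hz, rfl⟩
    exact ⟨z.2, fun h => hz ⟨h, z.2⟩⟩

theorem t2Space [T1Space X] [QuasiSeparatedSpace X] : T2Space X := by
  refine ⟨fun x y hxy => ?_⟩
  obtain ⟨_, ⟨U, hU, rfl⟩, hxU, -⟩ := X.isBasis_affineOpens.exists_subset_of_mem_open
    (show x ∈ (⊤ : X.Opens) from trivial) isOpen_univ
  by_cases hyU : y ∈ U
  · have := t2Space_affineOpen X hU
    obtain ⟨A, B, hA, hB, hxA, hyB, hAB⟩ :=
      t2_separation (x := (⟨x, hxU⟩ : (U : Set X))) (y := ⟨y, hyU⟩) (fun h => hxy (Subtype.ext_iff.1 h))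
    exact ⟨_, _, U.2.isOpenMap_subtype_val A hA, U.2.isOpenMap_subtype_val B hB,
      ⟨⟨x, hxU⟩, hxA, rfl⟩, ⟨⟨y, hyU⟩, hyB, rfl⟩, Set.disjoint_image_of_injective Subtype.val_injective hAB⟩
  · exact ⟨U, (U : Set X)ᶜ, U.2, (isClosed_affineOpen X hU).isOpen_compl, hxU, hyU, disjoint_compl_right⟩

theorem quasiSeparatedSpace [T2Space X] : QuasiSeparatedSpace X :=
  ⟨fun _ _ _ hUc _ hVc => hUc.inter hVc⟩

theorem isSeparated [T1Space X] [QuasiSeparatedSpace X] : X.IsSeparated := by
  constructor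
  have : QuasiSeparated (terminal.from X) :=
    (quasiSeparatedSpace_iff_quasiSeparated X).1 inferInstance
  refine IsSeparated.of_valuativeCriterion _ fun S => ⟨fun l₁ l₂ => ?_⟩
  ext : 1
  set g := Spec.map (CommRingCat.ofHom (algebraMap S.R S.K)) with hg
  set l := l₁.l with hl
  set m := l₂.l with hm
  have hlm : g ≫ l = g ≫ m := l₁.fac_left.trans l₂.fac_left.symm
  let η : Spec (CommRingCat.of S.R) := (⟨⊥, Ideal.isPrime_bot⟩ : PrimeSpectrum S.R)
  have hη : ∀ p : Spec (CommRingCat.of S.R), η ⤳ p := fun p =>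
    (PrimeSpectrum.le_iff_specializes η p).1 (bot_le (a := p.asIdeal))
  have hconst : ∀ (h : Spec (CommRingCat.of S.R) ⟶ X) p, h η = h p := fun h p =>
    ((hη p).map h.continuous).eq
  let η' : Spec (CommRingCat.of S.K) := (⟨⊥, Ideal.isPrime_bot⟩ : PrimeSpectrum S.K)
  have hgη : g η' = η :=
    PrimeSpectrum.ext (Ideal.comap_bot_of_injective _ (IsFractionRing.injective S.R S.K))
  have hx : l η = m η := by
    rw [← hgη, ← Scheme.Hom.comp_apply, ← Scheme.Hom.comp_apply, hlm]
  obtain ⟨_, ⟨U, hU, rfl⟩, hxU, -⟩ := X.isBasis_affineOpens.exists_subset_of_mem_open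
    (show l η ∈ (⊤ : X.Opens) from trivial) isOpen_univ
  have hU : IsAffineOpen U := hU
  let j := hU.fromSpec
  have hrange : ∀ h : Spec (CommRingCat.of S.R) ⟶ X, h η = l η → Set.range h ⊆ Set.range j := by
    rintro h hh _ ⟨p, rfl⟩
    rw [hU.range_fromSpec, ← hconst h p, hh]
    exact hxU
  rw [← IsOpenImmersion.lift_fac j l (hrange l rfl), ← IsOpenImmersion.lift_fac j m (hrange m hx.symm)]
  congr 1
  obtain ⟨φ, hφ⟩ := Spec.map_surjective (IsOpenImmersion.lift j l (hrange l rfl))
  obtain ⟨ψ, hψ⟩ := Spec.map_surjective (IsOpenImmersion.lift j m (hrange m hx.symm))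
  rw [← hφ, ← hψ]
  congr 1
  have h2 : g ≫ Spec.map φ = g ≫ Spec.map ψ := by
    rw [← cancel_mono j, Category.assoc, Category.assoc, hφ, hψ, IsOpenImmersion.lift_fac,
      IsOpenImmersion.lift_fac, hlm]
  rw [hg, ← Spec.map_comp, ← Spec.map_comp] at h2
  ext a
  exact IsFractionRing.injective S.R S.K (ConcreteCategory.congr_hom (Spec.map_injective h2) a)

theorem isAffineOpen_clopen {U V : X.Opens} (hU : IsAffineOpen U) (hVU : V ≤ U)
    (hV : IsClosed (V : Set X)) : IsAffineOpen V := by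
  have : IsAffine U := hU
  have : IsClosedImmersion (X.homOfLE hVU) := by
    refine IsClosedImmersion.of_isPreimmersion _ ?_
    convert hV.preimage U.ι.continuous
    ext x
    constructor
    · rintro ⟨y, rfl⟩
      change (U.ι (X.homOfLE hVU y)) ∈ V
      rw [← Scheme.Hom.comp_apply, Scheme.homOfLE_ι]
      exact y.2
    · intro hx
      exact ⟨⟨x.1, hx⟩, Subtype.ext (Scheme.homOfLE_apply hVU ⟨x.1, hx⟩)⟩
  exact isAffine_of_isAffineHom (X.homOfLE hVU)

theorem isAffineOpen_of_isCompact [T2Space X] (U : X.Opens) (hU : IsCompact (U : Set X)) :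
    IsAffineOpen U := by
  refine compact_open_induction_on (P := fun U : X.Opens => IsAffineOpen U) U hU
    (isAffineOpen_bot X) ?_
  intro U hU W ih
  let W' : X.Opens := ⟨(W.1 : Set X) \ U, W.1.2.sdiff hU.isClosed⟩
  have hW' : IsAffineOpen W' :=
    isAffineOpen_clopen X W.2 (fun y hy => hy.1) (W.2.isCompact.isClosed.sdiff U.2)
  have heq : U ⊔ W.1 = U ⊔ W' := Opens.ext (by simp [W', Set.union_sdiff_self])
  rw [heq]
  refine ih.sup_of_disjoint hW' ?_
  rw [← Opens.coe_disjoint]
  exact Set.disjoint_sdiff_right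

end Groth.Agent.Lib.DimZero.Sep
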